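import Mathlib
import Cfsg.Agent.Lib.Helper60.NseM11.Defs

/-!
# S3592 package [CENT]: an element of order 11 centralizes every normal subgroup of order
dividing 144
-/

set_option autoImplicit false

namespace Cfsg.Agent.Lib.Helper67.NseM11

open Cfsg.Agent.Lib.Helper60.NseM11
open scoped Pointwise

universe u

theorem div16 : ∀ d ∈ Nat.divisors 16, ∀ t ∈ Nat.divisors d, d % 11 = t % 11 → t = d := by
  decide

theorem div9 : ∀ d ∈ Nat.divisors 9, ∀ t ∈ Nat.divisors d, d % 11 = t % 11 → t = d := by
  decide

theorem div144 : ∀ d ∈ Nat.divisors 144, ¬ 2 ∣ d → ¬ 3 ∣ d → d = 1 := by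
  decide

/-- an automorphism of order dividing 11 of a group of order dividing 144 is trivial -/
theorem aut_trivial {M : Type u} [Group M] [Finite M] (hM : Nat.card M ∣ 144) (φ : MulAut M)
    (hφ : φ ^ 11 = 1) (m : M) : φ m = m := by
  classical
  have h11 : Fact (Nat.Prime 11) := ⟨by norm_num⟩
  let C : Subgroup M :=
    { carrier := {m | φ m = m}
      mul_mem' := fun {a b} ha hb => by
        show φ (a * b) = a * b
        rw [map_mul, show φ a = a from ha, show φ b = b from hb]
      one_mem' := map_one φ
      inv_mem' := fun {a} ha => by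
        show φ a⁻¹ = a⁻¹
        rw [map_inv, show φ a = a from ha] }
  have key : ∀ p : ℕ, p.Prime → (p = 2 ∨ p = 3) → ∃ S : Sylow p M, (S : Subgroup M) ≤ C := by
    intro p hp hp23
    have : Fact p.Prime := ⟨hp⟩
    have : Fintype (Sylow p M) := Fintype.ofFinite _
    let f : Function.End (Sylow p M) := fun S => φ • S
    have hfpow : ∀ k : ℕ, ∀ S, (f ^ k) S = (φ ^ k) • S := by
      intro k
      induction k with
      | zero =>
        intro S
        rw [pow_zero, pow_zero, one_smul]
        rfl
      | succ k ih =>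
        intro S
        rw [pow_succ, pow_succ]
        show (f ^ k) (f S) = _
        rw [ih, mul_smul]
    have hf : f ^ 11 ^ 1 = 1 := by
      rw [pow_one]
      funext S
      rw [hfpow, hφ, one_smul]
      rfl
    have hmod := Equiv.Perm.card_fixedPoints_modEq hf
    have hex : ∃ S : Sylow p M, φ • S = S := by
      by_contra hne
      have hempty : IsEmpty (Function.fixedPoints f) := ⟨fun S => hne ⟨S.1, S.2⟩⟩
      have h0 : Fintype.card (Function.fixedPoints f) = 0 := Fintype.card_eq_zero
      rw [h0] at hmod
      have hd : 11 ∣ Fintype.card (Sylow p M) := (Nat.modEq_zero_iff_dvd).mp hmod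
      obtain ⟨S0⟩ : Nonempty (Sylow p M) := inferInstance
      have h1 : Nat.card (Sylow p M) ∣ (S0 : Subgroup M).index := Sylow.card_dvd_index S0
      have h2 : (S0 : Subgroup M).index ∣ Nat.card M := Subgroup.index_dvd_card _
      have h3 : 11 ∣ 144 := by
        rw [← Nat.card_eq_fintype_card] at hd
        exact hd.trans (h1.trans (h2.trans hM))
      norm_num at h3
    obtain ⟨S, hS⟩ := hex
    refine ⟨S, ?_⟩
    have hφS : ∀ s ∈ (S : Subgroup M), φ s ∈ (S : Subgroup M) := by
      intro s hs
      have h1 : φ • s ∈ φ • (S : Subgroup M) := Subgroup.smul_mem_pointwise_smul s φ _ hs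
      have h3 : φ • (S : Subgroup M) = (S : Subgroup M) := by
        rw [← Sylow.pointwise_smul_def, hS]
      rw [h3] at h1
      exact h1
    have : Fintype (S : Subgroup M) := Fintype.ofFinite _
    let g : Function.End (S : Subgroup M) := fun s => ⟨φ s.1, hφS s.1 s.2⟩
    have hgpow : ∀ k : ℕ, ∀ s, ((g ^ k) s : M) = (φ ^ k) s.1 := by
      intro k
      induction k with
      | zero =>
        intro s
        rfl
      | succ k ih =>
        intro s
        rw [pow_succ, pow_succ]
        show ((g ^ k) (g s) : M) = _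
        rw [ih]
        rfl
    have hg : g ^ 11 ^ 1 = 1 := by
      rw [pow_one]
      funext s
      apply Subtype.ext
      rw [hgpow, hφ]
      rfl
    have hmod2 := Equiv.Perm.card_fixedPoints_modEq hg
    let T : Subgroup M := (S : Subgroup M) ⊓ C
    let eT : Function.fixedPoints g ≃ T :=
      { toFun := fun s => ⟨s.1.1, s.1.2, congrArg Subtype.val s.2⟩
        invFun := fun t => ⟨⟨t.1, t.2.1⟩, Subtype.ext t.2.2⟩
        left_inv := fun s => rfl
        right_inv := fun t => rfl }
    have hTS : Nat.card T ∣ Nat.card (S : Subgroup M) := Subgroup.card_dvd_of_le inf_le_left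
    have hmod3 : Nat.card (S : Subgroup M) % 11 = Nat.card T % 11 := by
      rw [← Nat.card_congr eT, Nat.card_eq_fintype_card, Nat.card_eq_fintype_card]
      exact hmod2
    have hScard : Nat.card (S : Subgroup M) ∣ 144 :=
      (Subgroup.card_subgroup_dvd_card _).trans hM
    obtain ⟨k, hk⟩ := IsPGroup.iff_card.mp S.isPGroup'
    have hTeq : Nat.card T = Nat.card (S : Subgroup M) := by
      rcases hp23 with rfl | rfl
      · have h16 : Nat.card (S : Subgroup M) ∣ 16 := by
          have hc : (Nat.card (S : Subgroup M)).Coprime 9 := by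
            rw [hk]
            exact Nat.Coprime.pow_left k (by norm_num)
          exact hc.dvd_of_dvd_mul_right (by simpa using hScard)
        exact div16 _ (Nat.mem_divisors.mpr ⟨h16, by norm_num⟩) _
          (Nat.mem_divisors.mpr ⟨hTS, Nat.card_pos.ne'⟩) hmod3
      · have h9 : Nat.card (S : Subgroup M) ∣ 9 := by
          have hc : (Nat.card (S : Subgroup M)).Coprime 16 := by
            rw [hk]
            exact Nat.Coprime.pow_left k (by norm_num)
          exact hc.dvd_of_dvd_mul_left (by simpa using hScard)
        exact div9 _ (Nat.mem_divisors.mpr ⟨h9, by norm_num⟩) _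
          (Nat.mem_divisors.mpr ⟨hTS, Nat.card_pos.ne'⟩) hmod3
    have hTS' : T = (S : Subgroup M) := Subgroup.eq_of_le_of_card_ge inf_le_left hTeq.ge
    intro s hs
    have hsT : s ∈ T := by rw [hTS']; exact hs
    exact hsT.2
  obtain ⟨S2, h2⟩ := key 2 (by norm_num) (Or.inl rfl)
  obtain ⟨S3, h3⟩ := key 3 (by norm_num) (Or.inr rfl)
  have hidx : C.index = 1 := by
    apply div144 _ (Nat.mem_divisors.mpr ⟨(Subgroup.index_dvd_card C).trans hM, by norm_num⟩)
    · intro hd
      have : Fact (Nat.Prime 2) := ⟨by norm_num⟩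
      exact S2.not_dvd_index (hd.trans (Subgroup.index_dvd_of_le h2))
    · intro hd
      have : Fact (Nat.Prime 3) := ⟨by norm_num⟩
      exact S3.not_dvd_index (hd.trans (Subgroup.index_dvd_of_le h3))
  have hC : C = ⊤ := Subgroup.index_eq_one.mp hidx
  have hm : m ∈ C := by rw [hC]; trivial
  exact hm

theorem pkgCent : PkgCent.{u} := by
  intro G _ _ N hN hcard x hx n hn
  have hφ : (MulAut.conjNormal x : MulAut N) ^ 11 = 1 := by
    rw [← map_pow, ← hx, pow_orderOf_eq_one, map_one]
  have h := aut_trivial hcard (MulAut.conjNormal x) hφ ⟨n, hn⟩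
  have h' : x * n * x⁻¹ = n := congrArg Subtype.val h
  calc x * n = x * n * x⁻¹ * x := by group
    _ = n * x := by rw [h']

example : PkgCent.{3} := pkgCent
example : PkgCent.{0} := pkgCent

end Cfsg.Agent.Lib.Helper67.NseM11
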