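import Mathlib
import Cfsg.Agent.Lib.Helper60.NseM11.Defs

/-!
# S3592 package [FROB3]: the number of elements of order 3 of a finite group of order divisible
by 3 is 2 modulo 3
-/

set_option autoImplicit false

namespace Cfsg.Agent.Lib.Helper67.NseM11

open Cfsg.Agent.Lib.Helper60.NseM11

universe u

theorem pkgFrob3 : PkgFrob3.{u} := by
  intro G _ _ h3
  classical
  have : Fintype G := Fintype.ofFinite G
  have : Fact (Nat.Prime 3) := ⟨by norm_num⟩
  let f : Function.End (G × G) := fun x => (x.2, (x.1 * x.2)⁻¹)
  have hf : f ^ 3 ^ 1 = 1 := by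
    rw [pow_one, pow_succ, pow_succ, pow_one]
    funext x
    obtain ⟨a, b⟩ := x
    show f (f (f (a, b))) = (a, b)
    simp only [f]
    rw [Prod.mk.injEq]
    constructor
    · group
    · group
  have h := Equiv.Perm.card_fixedPoints_modEq hf
  let e : {a : G // a ^ 3 = 1} ≃ Function.fixedPoints f :=
    { toFun := fun a => ⟨(a.1, a.1), by
        show f (a.1, a.1) = (a.1, a.1)
        have ha := a.2
        simp only [f]
        rw [Prod.mk.injEq]
        refine ⟨rfl, ?_⟩
        rw [inv_eq_iff_eq_inv, eq_inv_iff_mul_eq_one, ← pow_two, ← pow_succ]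
        exact ha⟩
      invFun := fun x => ⟨x.1.1, by
        have hx : f x.1 = x.1 := x.2
        have h1 : x.1.2 = x.1.1 := congrArg Prod.fst hx
        have h2 : (x.1.1 * x.1.2)⁻¹ = x.1.2 := congrArg Prod.snd hx
        rw [h1] at h2
        calc x.1.1 ^ 3 = x.1.1 * x.1.1 * x.1.1 := by rw [pow_succ, pow_two]
          _ = x.1.1 * x.1.1 * (x.1.1 * x.1.1)⁻¹ := by rw [h2]
          _ = 1 := mul_inv_cancel _⟩
      left_inv := fun a => rfl
      right_inv := fun x => by
        apply Subtype.ext
        have hx : f x.1 = x.1 := x.2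
        have h1 : x.1.2 = x.1.1 := congrArg Prod.fst hx
        exact Prod.ext rfl h1.symm }
  have hc : Nat.card {a : G // a ^ 3 = 1} = 1 + Nat.card {g : G // orderOf g = 3} := by
    rw [Nat.card_eq_fintype_card, Nat.card_eq_fintype_card, Fintype.card_subtype,
      Fintype.card_subtype]
    have hU : (Finset.univ.filter (fun a : G => a ^ 3 = 1)) =
        {1} ∪ Finset.univ.filter (fun a : G => orderOf a = 3) := by
      ext a
      simp only [Finset.mem_filter, Finset.mem_univ, true_and, Finset.mem_union,
        Finset.mem_singleton]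
      constructor
      · intro ha
        have hd : orderOf a ∣ 3 := orderOf_dvd_of_pow_eq_one ha
        rcases (Nat.dvd_prime (by norm_num : Nat.Prime 3)).mp hd with h1 | h1
        · left
          exact orderOf_eq_one_iff.mp h1
        · right
          exact h1
      · rintro (rfl | ha)
        · simp
        · rw [← ha]
          exact pow_orderOf_eq_one a
    rw [hU, Finset.card_union_of_disjoint, Finset.card_singleton]
    rw [Finset.disjoint_singleton_left]
    simp
  have hfix : Fintype.card (Function.fixedPoints f) =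
      1 + Nat.card {g : G // orderOf g = 3} := by
    rw [← Nat.card_eq_fintype_card, ← Nat.card_congr e, hc]
  rw [hfix, Fintype.card_prod] at h
  have h3' : 3 ∣ Fintype.card G := by rwa [Nat.card_eq_fintype_card] at h3
  have h0 : (Fintype.card G * Fintype.card G) % 3 = 0 :=
    Nat.mod_eq_zero_of_dvd (Dvd.dvd.mul_right h3' _)
  unfold Nat.ModEq at h
  omega

example : PkgFrob3.{3} := pkgFrob3
example : PkgFrob3.{0} := pkgFrob3

end Cfsg.Agent.Lib.Helper67.NseM11
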